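import Groth.Agent.TorsorAlg.Basic
import Groth.Agent.SmoothLib.Monogenic
import Groth.Prelude.Def_SGA1t

/-!
# Principal covers of affine schemes as algebras with group actions
-/

set_option autoImplicit false
set_option linter.all false
set_option backward.isDefEq.respectTransparency.types false
set_option backward.isDefEq.respectTransparency false

universe u v

open CategoryTheory CategoryTheory.Limits AlgebraicGeometry

noncomputable section

namespace Groth.Agent.TorsorAlg

variable {A : Type u} [CommRing A] {P : FEt.Cat (Spec (CommRingCat.of A))} {G : Type v}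

/-- A principal cover of an affine scheme is the spectrum of an algebra with a simply transitive action. -/
theorem exists_algebra [CommGroup G] [Finite G] {ρ : G →* Aut P} (hP : SGA1t.IsPrincipal G P ρ) :
    ∃ (B : Type u) (_ : CommRing B) (_ : Algebra A B) (_ : Algebra.Etale A B) (_ : Module.Finite A B)
      (σ : G → (B →ₐ[A] B)) (e : P.left ≅ Spec (CommRingCat.of B)),
      Simply σ ∧ (∀ g h b, σ (g * h) b = σ g (σ h b)) ∧
      e.hom ≫ Spec.map (CommRingCat.ofHom (algebraMap A B)) = P.hom ∧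
      ∀ g, (ρ g).hom.left ≫ e.hom = e.hom ≫ Spec.map (CommRingCat.ofHom (σ g).toRingHom) := by
  haveI : IsFinite P.hom := P.prop.1
  haveI : Etale P.hom := P.prop.2
  haveI : IsAffine P.left := isAffine_of_isAffineHom (Y := Spec (CommRingCat.of A)) P.hom
  let B : CommRingCat.{u} := Γ(P.left, ⊤)
  let e : P.left ≅ Spec B := P.left.isoSpec
  let f : CommRingCat.of A ⟶ B := Spec.preimage (e.inv ≫ P.hom)
  letI : Algebra A B := f.hom.toAlgebra
  have hf : Spec.map (CommRingCat.ofHom (algebraMap A B)) = e.inv ≫ P.hom := Spec.map_preimage _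
  haveI : Etale (Spec.map (CommRingCat.ofHom (algebraMap A B))) := by rw [hf]; infer_instance
  haveI : IsFinite (Spec.map (CommRingCat.ofHom (algebraMap A B))) := by rw [hf]; infer_instance
  haveI : Algebra.Etale A B := RingHom.etale_algebraMap.1
    ((HasRingHomProperty.Spec_iff (P := @Etale)).1 (inferInstanceAs (Etale (Spec.map (CommRingCat.ofHom (algebraMap A B))))))
  haveI : Module.Finite A B := RingHom.finite_algebraMap.1
    ((IsFinite.SpecMap_iff _).1 (inferInstanceAs (IsFinite (Spec.map (CommRingCat.ofHom (algebraMap A B))))))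
  have hw : ∀ g, (ρ g).hom.left ≫ P.hom = P.hom := fun g => Over.w (ρ g).hom.hom
  let σ : G → (B →ₐ[A] B) := fun g =>
    { (Spec.preimage (e.inv ≫ (ρ g).hom.left ≫ e.hom)).hom with
      commutes' := fun a => by
        refine ConcreteCategory.congr_hom (f := CommRingCat.ofHom (algebraMap A B) ≫
          Spec.preimage (e.inv ≫ (ρ g).hom.left ≫ e.hom)) (g := CommRingCat.ofHom (algebraMap A B)) (Spec.map_injective ?_) a
        rw [Spec.map_comp, Spec.map_preimage, hf]
        simp only [Category.assoc, Iso.hom_inv_id_assoc, hw] }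
  have hσ : ∀ g, Spec.map (CommRingCat.ofHom (σ g).toRingHom) = e.inv ≫ (ρ g).hom.left ≫ e.hom := fun g =>
    Spec.map_preimage _
  refine ⟨B, inferInstance, inferInstance, inferInstance, inferInstance, σ, e, ⟨?_, ?_⟩, ?_, ?_, fun g => ?_⟩
  · intro Ω _ _ _
    let ξ : Spec (CommRingCat.of Ω) ⟶ Spec (CommRingCat.of A) := Spec.map (CommRingCat.ofHom (algebraMap A Ω))
    obtain ⟨z, hz⟩ := hP.1 (ξ (IsLocalRing.closedPoint Ω))
    let q := (e.hom z : PrimeSpectrum B)
    let m : PrimeSpectrum A := ξ (IsLocalRing.closedPoint Ω)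
    have hq : q.asIdeal.comap (algebraMap A B) = m.asIdeal := by
      have h1 : Spec.map (CommRingCat.ofHom (algebraMap A B)) (e.hom z) = ξ (IsLocalRing.closedPoint Ω) := by
        rw [hf]
        refine Eq.trans ?_ hz
        exact congrArg P.hom ((congrArg (fun k : P.left ⟶ P.left => k z) e.hom_inv_id : (e.hom ≫ e.inv) z = (𝟙 P.left : P.left ⟶ P.left) z))
      exact congrArg PrimeSpectrum.asIdeal h1
    have hm : m.asIdeal = RingHom.ker (algebraMap A Ω) := by
      show (IsLocalRing.maximalIdeal Ω).comap (algebraMap A Ω) = _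
      rw [IsLocalRing.maximalIdeal_eq_bot]
      rfl
    haveI : q.asIdeal.LiesOver m.asIdeal := ⟨hq.symm⟩
    letI : Algebra (A ⧸ m.asIdeal) Ω := (Ideal.Quotient.lift _ (algebraMap A Ω) fun x hx => hm.le hx).toAlgebra
    haveI : Module.IsTorsionFree (A ⧸ m.asIdeal) (B ⧸ q.asIdeal) :=
      Module.isTorsionFree_iff_algebraMap_injective.2 (by
        rw [injective_iff_map_eq_zero]
        intro x hx
        obtain ⟨x, rfl⟩ := Ideal.Quotient.mk_surjective x
        rw [Ideal.Quotient.eq_zero_iff_mem, ← hq]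
        exact (Ideal.Quotient.eq_zero_iff_mem (I := q.asIdeal)).1 hx)
    haveI : Module.IsTorsionFree (A ⧸ m.asIdeal) Ω :=
      Module.isTorsionFree_iff_algebraMap_injective.2 (RingHom.lift_injective_of_ker_le_ideal _ _ hm.ge)
    haveI : Algebra.IsIntegral A B := Algebra.IsIntegral.of_finite A B
    haveI : Algebra.IsIntegral (A ⧸ m.asIdeal) (B ⧸ q.asIdeal) :=
      Ideal.Quotient.algebra_isIntegral_of_liesOver (B := B) q.asIdeal m.asIdeal
    haveI : Algebra.IsAlgebraic (A ⧸ m.asIdeal) (B ⧸ q.asIdeal) := Algebra.IsIntegral.isAlgebraic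
    let l : B ⧸ q.asIdeal →ₐ[A ⧸ m.asIdeal] Ω := IsAlgClosed.lift
    exact ⟨{ l.toRingHom.comp (Ideal.Quotient.mk q.asIdeal) with
      commutes' := fun a => l.commutes (Ideal.Quotient.mk m.asIdeal a) }⟩
  · intro Ω _ _ _ φ ψ
    let ξ : Spec (CommRingCat.of Ω) ⟶ Spec (CommRingCat.of A) := Spec.map (CommRingCat.ofHom (algebraMap A Ω))
    have pt : ∀ φ : B →ₐ[A] Ω, (Spec.map (CommRingCat.ofHom φ.toRingHom) ≫ e.inv) ≫ P.hom = ξ := fun φ => by
      rw [Category.assoc, ← hf, ← Spec.map_comp]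
      exact congrArg (fun r => Spec.map (CommRingCat.ofHom r)) φ.comp_algebraMap
    have key : ∀ g (φ ψ : B →ₐ[A] Ω), φ.comp (σ g) = ψ ↔
        (Spec.map (CommRingCat.ofHom φ.toRingHom) ≫ e.inv) ≫ (ρ g).hom.left =
          Spec.map (CommRingCat.ofHom ψ.toRingHom) ≫ e.inv := fun g φ ψ => by
      rw [← cancel_mono e.hom]
      simp only [Category.assoc, Iso.inv_hom_id, Category.comp_id, ← hσ, ← Spec.map_comp]
      exact ⟨fun h => h ▸ rfl, fun h => AlgHom.coe_ringHom_injective
        (congrArg CommRingCat.Hom.hom (Spec.map_injective h))⟩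
    obtain ⟨g, hg, hu⟩ := hP.2 Ω ξ ⟨_, pt φ⟩ ⟨_, pt ψ⟩
    exact ⟨g, (key g φ ψ).2 (congrArg Subtype.val hg), fun g' hg' => hu g' (Subtype.ext ((key g' φ ψ).1 hg'))⟩
  · intro g h b
    refine ConcreteCategory.congr_hom (f := CommRingCat.ofHom (σ (g * h)).toRingHom)
      (g := CommRingCat.ofHom (σ h).toRingHom ≫ CommRingCat.ofHom (σ g).toRingHom) (Spec.map_injective ?_) b
    rw [Spec.map_comp, hσ, hσ, hσ, mul_comm g h, map_mul]
    show e.inv ≫ ((ρ g).hom ≫ (ρ h).hom).left ≫ e.hom = _
    rw [show ((ρ g).hom ≫ (ρ h).hom).left = (ρ g).hom.left ≫ (ρ h).hom.left from rfl]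
    simp
  · rw [hf, Iso.hom_inv_id_assoc]
  · rw [hσ, Iso.hom_inv_id_assoc]

/-- Transport of a description of the algebra to the cover. -/
theorem exists_iso_of_bijective {ρ : G → (P ⟶ P)} {B C : Type u} [CommRing B] [Algebra A B] [CommRing C] [Algebra A C]
    {σ : G → (B →ₐ[A] B)} {e : P.left ≅ Spec (CommRingCat.of B)}
    (he : e.hom ≫ Spec.map (CommRingCat.ofHom (algebraMap A B)) = P.hom)
    (hρ : ∀ g, (ρ g).left ≫ e.hom = e.hom ≫ Spec.map (CommRingCat.ofHom (σ g).toRingHom))
    (h : C →ₐ[A] B) (hb : Function.Bijective h) :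
    ∃ e' : P.left ≅ Spec (CommRingCat.of C),
      e'.hom ≫ Spec.map (CommRingCat.ofHom (algebraMap A C)) = P.hom ∧
      ∀ g (t : C →+* C), (∀ c, σ g (h c) = h (t c)) →
        (ρ g).left ≫ e'.hom = e'.hom ≫ Spec.map (CommRingCat.ofHom t) := by
  haveI : IsIso (CommRingCat.ofHom h.toRingHom) := (ConcreteCategory.isIso_iff_bijective _).2 hb
  refine ⟨e ≪≫ asIso (Spec.map (CommRingCat.ofHom h.toRingHom)), ?_, fun g t ht => ?_⟩
  · rw [Iso.trans_hom, asIso_hom, Category.assoc, ← Spec.map_comp, ← he]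
    exact congrArg (fun r => e.hom ≫ Spec.map (CommRingCat.ofHom r)) h.comp_algebraMap
  · rw [Iso.trans_hom, asIso_hom, ← Category.assoc, hρ, Category.assoc, Category.assoc, ← Spec.map_comp, ← Spec.map_comp]
    exact congrArg (fun r => e.hom ≫ Spec.map (CommRingCat.ofHom r)) (RingHom.ext ht)

end Groth.Agent.TorsorAlg
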