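import Groth.Agent.FEtQuot.EndoAlgebra
import Groth.Agent.FEtQuot.RestrictExact

/-!
# Finite étale algebras with a simply transitive group of automorphisms
-/

set_option autoImplicit false
set_option linter.all false
set_option backward.isDefEq.respectTransparency.types false
set_option backward.isDefEq.respectTransparency false

universe u v

open CategoryTheory CategoryTheory.Limits AlgebraicGeometry

noncomputable section

namespace Groth.Agent.TorsorAlg

variable {A B C : Type u} [CommRing A] [CommRing B] [CommRing C] [Algebra A B] [Algebra A C]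

/-- A homomorphism of finite étale algebras which is bijective on geometric points is bijective. -/
theorem bijective_of_points [Algebra.Etale A B] [Module.Finite A B] [Algebra.Etale A C] [Module.Finite A C]
    (h : C →ₐ[A] B)
    (hb : ∀ (Ω : Type u) [Field Ω] [IsAlgClosed Ω] [Algebra A Ω],
      Function.Bijective fun φ : B →ₐ[A] Ω => φ.comp h) : Function.Bijective h := by
  have hp : ∀ (D : Type u) [CommRing D] [Algebra A D] [Algebra.Etale A D] [Module.Finite A D],
      FEt.prop (Spec.map (CommRingCat.ofHom (algebraMap A D))) := fun D _ _ _ _ =>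
    ⟨(IsFinite.SpecMap_iff _).2 (RingHom.finite_algebraMap.2 inferInstance),
      (HasRingHomProperty.Spec_iff (P := @Etale)).2 (RingHom.etale_algebraMap.2 inferInstance)⟩
  let Y : FEt.Cat (Spec (CommRingCat.of A)) := MorphismProperty.Over.mk ⊤ _ (hp B)
  let Z : FEt.Cat (Spec (CommRingCat.of A)) := MorphismProperty.Over.mk ⊤ _ (hp C)
  let q : Y ⟶ Z := MorphismProperty.Over.homMk (Spec.map (CommRingCat.ofHom h.toRingHom)) (by
    show Spec.map (CommRingCat.ofHom h.toRingHom) ≫ Spec.map (CommRingCat.ofHom (algebraMap A C)) = _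
    rw [← Spec.map_comp]
    exact congrArg (fun r => Spec.map (CommRingCat.ofHom r)) h.comp_algebraMap)
  haveI : IsIso q := FEtQuot.isIso_of_fibres q fun Ω _ _ ξ => by
    letI : Algebra A Ω := (Spec.preimage ξ).hom.toAlgebra
    have hξ : Spec.map (CommRingCat.ofHom (algebraMap A Ω)) = ξ := Spec.map_preimage ξ
    have key : ∀ {D : Type u} [CommRing D] [Algebra A D] (s : Spec (CommRingCat.of Ω) ⟶ Spec (CommRingCat.of D)),
        s ≫ Spec.map (CommRingCat.ofHom (algebraMap A D)) = ξ →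
        ∃ φ : D →ₐ[A] Ω, Spec.map (CommRingCat.ofHom φ.toRingHom) = s := fun {D} _ _ s hs =>
      ⟨{ (Spec.preimage s).hom with
          commutes' := fun a => by
            have e : CommRingCat.ofHom (algebraMap A D) ≫ Spec.preimage s = CommRingCat.ofHom (algebraMap A Ω) :=
              Spec.map_injective (by rw [Spec.map_comp, Spec.map_preimage, hs, hξ])
            exact ConcreteCategory.congr_hom e a }, Spec.map_preimage s⟩
    constructor
    · intro s t hst
      obtain ⟨φ, hφ⟩ := key (s : FEt.fiberObj ξ Y).1 (s : FEt.fiberObj ξ Y).2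
      obtain ⟨ψ, hψ⟩ := key (t : FEt.fiberObj ξ Y).1 (t : FEt.fiberObj ξ Y).2
      have h1 : (s : FEt.fiberObj ξ Y).1 ≫ q.left = (t : FEt.fiberObj ξ Y).1 ≫ q.left := congrArg Subtype.val hst
      rw [← hφ, ← hψ] at h1
      have h2 : φ.comp h = ψ.comp h := AlgHom.coe_ringHom_injective
        (congrArg CommRingCat.Hom.hom (Spec.map_injective ((Spec.map_comp _ _).trans (h1.trans (Spec.map_comp _ _).symm))))
      exact Subtype.ext (by rw [← hφ, ← hψ, (hb Ω).1 h2])
    · intro t
      obtain ⟨ψ, hψ⟩ := key (t : FEt.fiberObj ξ Z).1 (t : FEt.fiberObj ξ Z).2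
      obtain ⟨φ, hφ⟩ := (hb Ω).2 ψ
      refine ⟨(⟨Spec.map (CommRingCat.ofHom φ.toRingHom), ?_⟩ : FEt.fiberObj ξ Y), Subtype.ext ?_⟩
      · show _ ≫ Spec.map (CommRingCat.ofHom (algebraMap A B)) = ξ
        rw [← hξ, ← Spec.map_comp]
        exact congrArg (fun r => Spec.map (CommRingCat.ofHom r)) φ.comp_algebraMap
      · show Spec.map (CommRingCat.ofHom φ.toRingHom) ≫ Spec.map (CommRingCat.ofHom h.toRingHom) = _
        rw [← hψ, ← Spec.map_comp, ← hφ]
        rfl
  haveI : IsIso (Spec.map (CommRingCat.ofHom h.toRingHom)) :=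
    inferInstanceAs (IsIso ((MorphismProperty.Over.forget FEt.prop ⊤ _ ⋙ Over.forget _).map q))
  haveI : IsIso (Scheme.Spec.map (CommRingCat.ofHom h.toRingHom).op) := ‹_›
  haveI := isIso_of_reflects_iso (CommRingCat.ofHom h.toRingHom).op Scheme.Spec
  haveI : IsIso (CommRingCat.ofHom h.toRingHom) := isIso_of_op _
  exact (ConcreteCategory.isIso_iff_bijective (CommRingCat.ofHom h.toRingHom)).1 inferInstance

/-- Points of the base extend to points of a subalgebra of a finite algebra. -/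
theorem exists_extend [Module.Finite A B] (S : Subalgebra A B) (Ω : Type u) [Field Ω] [IsAlgClosed Ω] [Algebra A Ω]
    (ψ : S →ₐ[A] Ω) : ∃ φ : B →ₐ[A] Ω, φ.comp S.val = ψ := by
  haveI : Algebra.IsIntegral A B := Algebra.IsIntegral.of_finite A B
  haveI : Algebra.IsIntegral S B := Algebra.IsIntegral.tower_top A
  let Q : Ideal S := RingHom.ker ψ.toRingHom
  haveI : Q.IsPrime := RingHom.ker_isPrime _
  obtain ⟨P, hP, hPQ⟩ := Ideal.exists_ideal_over_prime_of_isIntegral (S := B) Q ⊥ (fun x hx => by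
    rw [Ideal.mem_comap, Ideal.mem_bot] at hx
    rw [show x = 0 from Subtype.ext hx]
    exact zero_mem _) |> fun ⟨P, _, hP, hPQ⟩ => (⟨P, hP, hPQ⟩ : ∃ P : Ideal B, P.IsPrime ∧ P.comap (algebraMap S B) = Q)
  haveI := hP
  haveI : P.LiesOver Q := ⟨hPQ.symm⟩
  letI : Algebra (S ⧸ Q) Ω := (Ideal.Quotient.lift Q ψ.toRingHom fun x hx => hx).toAlgebra
  haveI : Module.IsTorsionFree (S ⧸ Q) (B ⧸ P) :=
    Module.isTorsionFree_iff_algebraMap_injective.2 (by
      rw [injective_iff_map_eq_zero]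
      intro x hx
      obtain ⟨x, rfl⟩ := Ideal.Quotient.mk_surjective x
      rw [Ideal.Quotient.eq_zero_iff_mem, ← hPQ]
      show (x : B) ∈ P
      exact (Ideal.Quotient.eq_zero_iff_mem (I := P)).1 hx)
  haveI : Module.IsTorsionFree (S ⧸ Q) Ω :=
    Module.isTorsionFree_iff_algebraMap_injective.2 (RingHom.lift_injective_of_ker_le_ideal Q _ le_rfl)
  haveI : Algebra.IsIntegral (S ⧸ Q) (B ⧸ P) := Ideal.Quotient.algebra_isIntegral_of_liesOver (B := B) P Q
  haveI : Algebra.IsAlgebraic (S ⧸ Q) (B ⧸ P) := Algebra.IsIntegral.isAlgebraic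
  let l : B ⧸ P →ₐ[S ⧸ Q] Ω := IsAlgClosed.lift
  have hl : ∀ x : S, l (Ideal.Quotient.mk P x.1) = ψ x := fun x => l.commutes (Ideal.Quotient.mk Q x)
  exact ⟨{ l.toRingHom.comp (Ideal.Quotient.mk P) with
    commutes' := fun a => (hl (algebraMap A S a)).trans (ψ.commutes a) }, AlgHom.ext hl⟩

variable {G : Type v} [Finite G] (σ : G → (B →ₐ[A] B))

/-- The endomorphisms act simply transitively on the geometric points, and there are such points. -/
structure Simply : Prop where
  nonempty : ∀ (Ω : Type u) [Field Ω] [IsAlgClosed Ω] [Algebra A Ω], Nonempty (B →ₐ[A] Ω)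
  existsUnique : ∀ (Ω : Type u) [Field Ω] [IsAlgClosed Ω] [Algebra A Ω] (φ ψ : B →ₐ[A] Ω),
    ∃! g, φ.comp (σ g) = ψ

variable {σ} [Algebra.Etale A B] [Module.Finite A B]

/-- The fixed elements come from the base. -/
theorem Simply.mem_range_of_fixed (hT : Simply σ) (b : B) (hb : ∀ g, σ g b = b) :
    b ∈ Set.range (algebraMap A B) := by
  let e : G ≃ ULift.{u} (Fin (Nat.card G)) := (Finite.equivFin G).trans Equiv.ulift.symm
  let τ : ULift.{u} (Fin (Nat.card G)) → (B →ₐ[A] B) := fun i => σ (e.symm i)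
  obtain ⟨h1, h2⟩ := FEtQuot.Endo.finite_etale_invSub τ
  haveI := h1
  haveI := h2
  have hbij : Function.Bijective (Algebra.ofId A (SchFinLib.invSub τ)) := bijective_of_points _ fun Ω _ _ _ => by
    obtain ⟨φ₀⟩ := hT.nonempty Ω
    refine ⟨fun ψ ψ' _ => ?_, fun φ => ⟨φ₀.comp (SchFinLib.invSub τ).val, AlgHom.ext fun a => ?_⟩⟩
    · obtain ⟨φ, rfl⟩ := exists_extend _ Ω ψ
      obtain ⟨φ', rfl⟩ := exists_extend _ Ω ψ'
      obtain ⟨g, hg, -⟩ := hT.existsUnique Ω φ φ'
      refine AlgHom.ext fun x => ?_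
      show φ x.1 = φ' x.1
      rw [← hg]
      have hx : σ g x.1 = x.1 := by
        have := (SchFinLib.mem_invSub τ).1 x.2 (e g)
        simpa [τ] using this
      show φ x.1 = φ (σ g x.1)
      rw [hx]
    · exact ((φ₀.comp (SchFinLib.invSub τ).val).comp (Algebra.ofId A _)).commutes a |>.trans (φ.commutes a).symm
  obtain ⟨a, ha⟩ := hbij.2 ⟨b, (SchFinLib.mem_invSub τ).2 fun i => hb _⟩
  exact ⟨a, congrArg Subtype.val ha⟩

/-- A resolvent avoiding a given prime. -/
theorem Simply.exists_notMem (hT : Simply σ) (χ : G → A) (g₀ : G) (hg₀ : IsUnit (χ g₀)) (q : Ideal B) [q.IsPrime]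
    [Fintype G] : ∃ c : B, (∑ g, χ g • σ g c) ∉ q := by
  classical
  by_contra! h
  let Ω := AlgebraicClosure (FractionRing (B ⧸ q))
  let r : B →+* Ω := ((algebraMap (FractionRing (B ⧸ q)) Ω).comp (algebraMap (B ⧸ q) (FractionRing (B ⧸ q)))).comp
    (Ideal.Quotient.mk q)
  letI : Algebra A Ω := (r.comp (algebraMap A B)).toAlgebra
  let φ : B →ₐ[A] Ω := { r with commutes' := fun a => rfl }
  have hinj : Function.Injective fun g => ((φ.comp (σ g)) : B →* Ω) := fun g g' hgg' => by
    obtain ⟨k, -, huniq⟩ := hT.existsUnique Ω φ (φ.comp (σ g'))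
    exact (huniq g (AlgHom.ext fun x => DFunLike.congr_fun hgg' x)).trans (huniq g' rfl).symm
  have hli := (linearIndependent_monoidHom B Ω).comp _ hinj
  have := Fintype.linearIndependent_iff.1 hli (fun g => algebraMap A Ω (χ g)) (funext fun c => by
    have hc : φ (∑ g, χ g • σ g c) = 0 := by
      show r _ = 0
      simp only [r, RingHom.comp_apply]
      rw [Ideal.Quotient.eq_zero_iff_mem.2 (h c), map_zero, map_zero]
    rw [map_sum] at hc
    simp only [Finset.sum_apply, Pi.smul_apply, Pi.zero_apply, smul_eq_mul]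
    refine Eq.trans (Finset.sum_congr rfl fun g _ => ?_) hc
    rw [Algebra.smul_def (χ g), map_mul, φ.commutes]
    rfl) g₀
  exact (hg₀.map (algebraMap A Ω)).ne_zero this

/-- The trace is surjective. -/
theorem Simply.exists_sum_eq_one [CommGroup G] [Fintype G] (hT : Simply σ)
    (hmul : ∀ g h b, σ (g * h) b = σ g (σ h b)) : ∃ c : B, ∑ g, σ g c = 1 := by
  have hinv : ∀ c : B, ∀ h, σ h (∑ g, σ g c) = ∑ g, σ g c := fun c h => by
    rw [map_sum]
    simp only [← hmul]
    exact Equiv.sum_comp (Equiv.mulLeft h) fun g => σ g c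
  let T : B →ₗ[A] B := ∑ g, (σ g).toLinearMap
  have hTc : ∀ c, T c = ∑ g, σ g c := fun c => by simp [T]
  let I : Ideal A := Submodule.comap (Algebra.linearMap A B) (LinearMap.range T)
  by_cases hI : I = ⊤
  · obtain ⟨c, hc⟩ : (1 : A) ∈ I := hI ▸ trivial
    exact ⟨c, (hTc c).symm.trans (hc.trans (map_one (algebraMap A B)))⟩
  obtain ⟨m, hm, hIm⟩ := Ideal.exists_le_maximal I hI
  haveI := hm
  letI := Ideal.Quotient.field m
  letI : Algebra A (AlgebraicClosure (A ⧸ m)) :=
    ((algebraMap (A ⧸ m) (AlgebraicClosure (A ⧸ m))).comp (Ideal.Quotient.mk m)).toAlgebra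
  obtain ⟨φ⟩ := hT.nonempty (AlgebraicClosure (A ⧸ m))
  let q : Ideal B := RingHom.ker φ.toRingHom
  haveI : q.IsPrime := RingHom.ker_isPrime _
  obtain ⟨c, hc⟩ := hT.exists_notMem (fun _ => 1) 1 isUnit_one q
  refine absurd ?_ hc
  simp only [one_smul]
  obtain ⟨a, ha⟩ := hT.mem_range_of_fixed _ (hinv c)
  rw [← ha]
  show φ (algebraMap A B a) = 0
  rw [φ.commutes]
  show (algebraMap (A ⧸ m) (AlgebraicClosure (A ⧸ m))) (Ideal.Quotient.mk m a) = 0
  rw [Ideal.Quotient.eq_zero_iff_mem.2 (hIm ⟨c, (hTc c).trans ha.symm⟩), map_zero]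

end Groth.Agent.TorsorAlg
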